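import Groth.Agent.AlgGrp1.Basic
import Groth.Agent.AlgGrp1.QuotGrp
import Groth.Agent.AlgGrp1.MonoHom
import Groth.Agent.AlgGrp1.ImageHom
import Groth.Agent.ArtinQuot.Scheme
import Groth.Agent.AbVarMul.KernelComp
import Groth.Agent.Agf.SubobjGrp

/-!
Kernels and cokernels of homomorphisms of commutative algebraic groups over a field.
-/

set_option autoImplicit false
set_option linter.style.haveILetI false
universe u

open CategoryTheory Limits MonoidalCategory CartesianMonoidalCategory MonObj GrpObj AlgebraicGeometry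
open Groth.AlgGrp1

noncomputable section

namespace Groth.AlgGrpAb

variable {S : Scheme.{u}}

/-- A homomorphism killing the kernel of a quotient map descends to the quotient. -/
theorem exists_desc_hom {N G Q Z : Over S} [GrpObj G] [GrpObj Q] [GrpObj Z] {i : N ⟶ G}
    (q : G ⟶ Q) [IsMonHom q] (hq : IsCover q) (hk : AlgGrp.IsKernel i q)
    (h : G ⟶ Z) [IsMonHom h] (w : i ≫ h = 1) : ∃ g : Q ⟶ Z, IsMonHom g ∧ q ≫ g = h := by
  obtain ⟨g, hg⟩ := hq.exists_desc h (fun T a b hab => by
    obtain ⟨n, hn⟩ := IsKernel.exists_lift hk (a⁻¹ * b) (by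
      rw [MonObj.mul_comp, GrpObj.inv_comp, hab, _root_.inv_mul_cancel])
    have e : (a⁻¹ * b) ≫ h = 1 := by rw [← hn, Category.assoc, w, MonObj.comp_one]
    rw [MonObj.mul_comp, GrpObj.inv_comp] at e
    exact inv_mul_eq_one.1 e)
  refine ⟨g, isMonHom_of_points g fun T a b => ?_, hg⟩
  obtain ⟨T', c, x, y, hc, hx, hy⟩ := hq.exists_lift₂ a b
  refine hc.cancel ?_
  rw [← Category.assoc, MonObj.comp_mul, ← hx, ← hy, ← MonObj.mul_comp, Category.assoc, hg,
    MonObj.mul_comp, MonObj.comp_mul, ← Category.assoc c a g, ← Category.assoc c b g, ← hx, ← hy,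
    Category.assoc, Category.assoc, hg]

/-- The target of a cover from a commutative group is commutative. -/
theorem isCommMonObj_of_cover {G Q : Over S} [GrpObj G] [GrpObj Q] [IsCommMonObj G] (q : G ⟶ Q)
    [IsMonHom q] (hq : IsCover q) : IsCommMonObj Q := by
  rw [isCommMonObj_iff_isMulCommutative]
  refine fun T => ⟨⟨fun a b => ?_⟩⟩
  obtain ⟨T', c, x, y, hc, hx, hy⟩ := hq.exists_lift₂ a b
  refine hc.cancel ?_
  rw [MonObj.comp_mul, MonObj.comp_mul, ← hx, ← hy, ← MonObj.mul_comp, ← MonObj.mul_comp, _root_.mul_comm x y]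

section Field

variable {k : Type u} [Field k]

local notation "Sch" => Over (Spec (CommRingCat.of k))

/-- The kernel of a homomorphism of group schemes over a field is a closed subgroup. -/
theorem exists_kernel {G H : Sch} [GrpObj G] [GrpObj H] [IsCommMonObj G] (f : G ⟶ H) [IsMonHom f] :
    ∃ (K : Sch) (_ : GrpObj K) (i : K ⟶ G), IsCommMonObj K ∧ IsMonHom i ∧ IsClosedImmersion i.left ∧
      AlgGrp.IsKernel i f := by
  let i : pullback f η[H] ⟶ G := pullback.fst f η[H]
  have hk : AlgGrp.IsKernel i f := by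
    have := IsPullback.of_hasPullback f η[H]
    rwa [toUnit_unique (pullback.snd f η[H]) (toUnit _)] at this
  have := IsKernel.mono hk
  obtain ⟨_, hi⟩ := Groth.Agf.exists_grpObj_of_subgroup i (fun T g => g ≫ f = 1)
    (fun T g => IsKernel.exists_iff hk g) (fun T => MonObj.one_comp f)
    (fun T a b ha hb => by rw [MonObj.mul_comp, ha, hb, _root_.mul_one])
    (fun T a ha => by rw [GrpObj.inv_comp, ha, inv_one])
  have := isSeparated_grpObj H
  have : IsClosedImmersion η[H].left := inferInstance
  have hc : IsClosedImmersion i.left :=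
    MorphismProperty.of_isPullback (hk.map (Over.forget _)).flip this
  exact ⟨_, _, i, Groth.AbVarMul.isCommMonObj_of_mono i, hi, hc, hk⟩

theorem quasiCompact_of_surjective {G Q : Sch} (p : G ⟶ Q) [Surjective p.left] [QuasiCompact G.hom] :
    QuasiCompact Q.hom := by
  have : CompactSpace G.left := QuasiCompact.compactSpace_of_compactSpace G.hom
  have hc : IsCompact (Set.univ : Set Q.left) := by
    rw [← p.left.surjective.range_eq]
    exact isCompact_range p.left.continuous
  exact (quasiCompact_iff_compactSpace Q.hom).2 ⟨hc⟩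

/-- The quotient of a commutative algebraic group by a closed subgroup is a commutative algebraic
group. -/
theorem exists_cokernel {F G : Sch} [GrpObj F] [GrpObj G] [IsCommMonObj G] [LocallyOfFiniteType G.hom]
    [QuasiCompact G.hom] (u : F ⟶ G) [IsMonHom u] [IsClosedImmersion u.left] :
    ∃ (Q : Sch) (_ : GrpObj Q) (q : G ⟶ Q), IsCommMonObj Q ∧ IsMonHom q ∧ IsCover q ∧
      LocallyOfFiniteType Q.hom ∧ QuasiCompact Q.hom ∧ AlgGrp.IsKernel u q := by
  have : Flat F.hom := inferInstance
  have := Over.mono_of_mono_left u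
  obtain ⟨X, p, -, hl, hs, hf, hlp, hsq⟩ := Groth.ArtinQuot.exists_scheme_quot u
  obtain ⟨grp, hp, hk⟩ := Groth.ArtinQuot.exists_group_of_quot u
    (fun T g n => ⟨n, by rw [_root_.mul_comm g, _root_.mul_assoc, _root_.mul_inv_cancel, _root_.mul_one]⟩) p hsq
  exact ⟨X, grp, p, isCommMonObj_of_cover p ⟨hf, hs, hlp⟩, hp, ⟨hf, hs, hlp⟩, hl,
    quasiCompact_of_surjective p, hk⟩

end Field

end Groth.AlgGrpAb
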