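import Groth.Agent.AlgGrpAb.Basic
import Mathlib.CategoryTheory.Abelian.Basic
import Mathlib.CategoryTheory.Limits.Constructions.FiniteProductsOfBinaryProducts
import Mathlib.CategoryTheory.Monoidal.CommGrp_

/-!
Abelian categories of commutative algebraic groups over a field.
-/

set_option autoImplicit false
set_option linter.style.haveILetI false
universe u

open CategoryTheory Limits MonoidalCategory CartesianMonoidalCategory MonObj GrpObj AlgebraicGeometry
open Groth.AlgGrp1

noncomputable section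

namespace Groth.AlgGrpAb

variable {k : Type u} [Field k]

local notation "Sch" => Over (Spec (CommRingCat.of k))

/-- The conditions on a class of commutative algebraic groups making it an abelian category. -/
structure IsGoodClass (P : ObjectProperty (CommGrp Sch)) : Prop where
  lft : ∀ G, P G → LocallyOfFiniteType G.X.hom ∧ QuasiCompact G.X.hom
  trivial : P (CommGrp.trivial Sch)
  prod : ∀ G H : CommGrp Sch, P G → P H → P ⟨G.X ⊗ H.X⟩
  closed : ∀ (K G : CommGrp Sch) (i : K.X ⟶ G.X), IsClosedImmersion i.left → P G → P K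
  quot : ∀ (G Q : CommGrp Sch) (q : G.X ⟶ Q.X), IsMonHom q → IsCover q → LocallyOfFiniteType Q.X.hom →
    QuasiCompact Q.X.hom → P G → P Q

variable {P : ObjectProperty (CommGrp (Over (Spec (CommRingCat.of k))))} {X Y Z : P.FullSubcategory}

/-- The underlying morphism of schemes. -/
abbrev un (f : X ⟶ Y) : X.obj.X ⟶ Y.obj.X := f.hom.hom.hom.hom

/-- The morphism given by a homomorphism. -/
def mkHom (f : X.obj.X ⟶ Y.obj.X) [IsMonHom f] : X ⟶ Y :=
  ObjectProperty.homMk (InducedCategory.homMk (Grp.homMk f))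

theorem un_mk (f : X.obj.X ⟶ Y.obj.X) [IsMonHom f] : un (mkHom (X := X) (Y := Y) f) = f := rfl

theorem un_comp (f : X ⟶ Y) (g : Y ⟶ Z) : un (f ≫ g) = un f ≫ un g := rfl

theorem un_id : un (𝟙 X) = 𝟙 X.obj.X := rfl

theorem un_ext {f g : X ⟶ Y} (h : un f = un g) : f = g :=
  InducedCategory.hom_ext (CommGrp.hom_ext _ _ h)

instance isMonHom_un (f : X ⟶ Y) : IsMonHom (un f) := f.hom.hom.hom.isMonHom_hom

theorem isMonHom_mul {G H : Sch} [GrpObj G] [GrpObj H] [IsCommMonObj H] (f g : G ⟶ H) [IsMonHom f]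
    [IsMonHom g] : IsMonHom (f * g) :=
  isMonHom_of_points _ fun T a b => by
    rw [MonObj.comp_mul, MonObj.comp_mul, MonObj.comp_mul, MonObj.mul_comp, MonObj.mul_comp,
      _root_.mul_mul_mul_comm]

theorem isMonHom_one {G H : Sch} [GrpObj G] [GrpObj H] : IsMonHom (1 : G ⟶ H) :=
  isMonHom_of_points _ fun T a b => by simp [MonObj.comp_one]

/-- The group of homomorphisms. -/
@[reducible] def homGroup (X Y : P.FullSubcategory) : AddCommGroup (X ⟶ Y) :=
  letI : Add (X ⟶ Y) := ⟨fun f g => haveI := isMonHom_mul (un f) (un g); mkHom (un f * un g)⟩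
  letI : Zero (X ⟶ Y) := ⟨haveI := isMonHom_one (G := X.obj.X) (H := Y.obj.X); mkHom 1⟩
  letI : Neg (X ⟶ Y) := ⟨fun f => mkHom (un f)⁻¹⟩
  { AddGroup.ofLeftAxioms (G := X ⟶ Y) (fun a b c => un_ext (_root_.mul_assoc (un a) (un b) (un c)))
      (fun a => un_ext (_root_.one_mul (un a))) (fun a => un_ext (_root_.inv_mul_cancel (un a))) with
    add_comm := fun a b => un_ext (_root_.mul_comm (un a) (un b)) }

/-- The preadditive structure. -/
@[reducible] def preadditive (P : ObjectProperty (CommGrp Sch)) : Preadditive P.FullSubcategory where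
  homGroup := homGroup
  add_comp _ _ _ f f' g := un_ext (MonObj.mul_comp (un f) (un f') (un g))
  comp_add _ _ _ f g g' := un_ext (MonObj.comp_mul (un f) (un g) (un g'))

attribute [local instance] preadditive

theorem un_zero : un (0 : X ⟶ Y) = 1 := rfl

theorem comp_eq_zero_iff {f : X ⟶ Y} {g : Y ⟶ Z} : f ≫ g = 0 ↔ un f ≫ un g = 1 :=
  ⟨fun h => by rw [← un_comp, h, un_zero], fun h => un_ext h⟩

variable (hP : IsGoodClass P)
include hP

/-- The product of two objects. -/
abbrev prodObj (X Y : P.FullSubcategory) : P.FullSubcategory :=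
  ⟨⟨X.obj.X ⊗ Y.obj.X⟩, hP.prod _ _ X.2 Y.2⟩

theorem hasFiniteProducts : HasFiniteProducts P.FullSubcategory := by
  have : HasTerminal P.FullSubcategory := by
    let T : P.FullSubcategory := ⟨CommGrp.trivial Sch, hP.trivial⟩
    refine (IsTerminal.ofUniqueHom (fun X => (0 : X ⟶ T)) fun X f => un_ext ?_).hasTerminal
    exact toUnit_unique _ _
  have : HasBinaryProducts P.FullSubcategory := by
    refine @hasBinaryProducts_of_hasLimit_pair _ _ ?_
    intro X Y
    have h1 : IsMonHom (fst X.obj.X Y.obj.X) := inferInstance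
    have h2 : IsMonHom (snd X.obj.X Y.obj.X) := inferInstance
    refine ⟨⟨⟨BinaryFan.mk (P := prodObj hP X Y) (mkHom (fst X.obj.X Y.obj.X)) (mkHom (snd X.obj.X Y.obj.X)),
      BinaryFan.IsLimit.mk _ (fun {W} f g => ?_) ?_ ?_ ?_⟩⟩⟩
    · haveI : IsMonHom (lift (un f) (un g)) := isMonHom_of_points _ fun T a b => by
        apply CartesianMonoidalCategory.hom_ext <;> simp [MonObj.mul_comp]
      exact mkHom (Y := prodObj hP X Y) (lift (un f) (un g))
    · intro W f g
      exact un_ext (lift_fst _ _)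
    · intro W f g
      exact un_ext (lift_snd _ _)
    · intro W f g m hf hg
      refine un_ext (CartesianMonoidalCategory.hom_ext _ _ ?_ ?_)
      · exact (congrArg un hf).trans (lift_fst (un f) (un g)).symm
      · exact (congrArg un hg).trans (lift_snd (un f) (un g)).symm
  exact hasFiniteProducts_of_has_binary_and_terminal

/-- The kernel as an object of the subcategory. -/
theorem exists_kernelFork (f : X ⟶ Y) :
    ∃ (K : P.FullSubcategory) (i : K ⟶ X), IsClosedImmersion (un i).left ∧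
      AlgGrp.IsKernel (un i) (un f) := by
  obtain ⟨K, _, i, _, _, hc, hk⟩ := exists_kernel (un f)
  exact ⟨⟨⟨K⟩, hP.closed ⟨K⟩ X.obj i hc X.2⟩, mkHom i, hc, hk⟩

omit hP in
/-- A kernel on points is a kernel. -/
theorem isLimit_kernelFork {K : P.FullSubcategory} {i : K ⟶ X} {f : X ⟶ Y}
    (hk : AlgGrp.IsKernel (un i) (un f)) (w : i ≫ f = 0) :
    Nonempty (IsLimit (KernelFork.ofι i w)) := by
  have := IsKernel.mono hk
  have key : ∀ (W : P.FullSubcategory) (g : W ⟶ X), g ≫ f = 0 → ∃ l : W ⟶ K, l ≫ i = g := by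
    intro W g hg
    obtain ⟨n, hn⟩ := IsKernel.exists_lift hk (un g) (comp_eq_zero_iff.1 hg)
    haveI : IsMonHom n := isMonHom_of_points n fun T a b => by
      rw [← cancel_mono (un i), MonObj.mul_comp (a ≫ n), Category.assoc, Category.assoc,
        Category.assoc, hn, MonObj.mul_comp]
    exact ⟨mkHom n, un_ext hn⟩
  choose l hl using key
  refine ⟨KernelFork.IsLimit.ofι i w (fun {W} g hg => l W g hg) (fun {W} g hg => hl W g hg) ?_⟩
  intro W g hg m hm
  refine un_ext ((cancel_mono (un i)).1 ?_)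
  rw [← un_comp, ← un_comp, hm, hl]

theorem hasKernels : HasKernels P.FullSubcategory := ⟨fun f => by
  obtain ⟨K, i, -, hk⟩ := exists_kernelFork hP f
  have w : i ≫ f = 0 := comp_eq_zero_iff.2 (IsKernel.comp_eq_one hk)
  exact HasLimit.mk ⟨_, (isLimit_kernelFork hk w).some⟩⟩

/-- The cokernel of a closed subgroup as an object of the subcategory. -/
theorem exists_quotient {K : P.FullSubcategory} (i : K ⟶ Y) [IsClosedImmersion (un i).left] :
    ∃ (Q : P.FullSubcategory) (q : Y ⟶ Q), IsCover (un q) ∧ AlgGrp.IsKernel (un i) (un q) := by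
  haveI := (hP.lft _ Y.2).1
  haveI := (hP.lft _ Y.2).2
  obtain ⟨Q, _, q, _, hm, hc, h1, h2, hk⟩ := exists_cokernel (un i)
  exact ⟨⟨⟨Q⟩, hP.quot Y.obj ⟨Q⟩ q hm hc h1 h2 Y.2⟩, mkHom q, hc, hk⟩

omit hP in
/-- A cover is the cokernel of any homomorphism whose composite with its kernel is a cover. -/
theorem isColimit_cofork {Q : P.FullSubcategory} {f : X ⟶ Y} {q : Y ⟶ Q} {K : Sch} {g : X.obj.X ⟶ K}
    {i : K ⟶ Y.obj.X} (hfac : g ≫ i = un f) (hg : IsCover g) (hq : IsCover (un q))
    (hk : AlgGrp.IsKernel i (un q)) (w : f ≫ q = 0) :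
    Nonempty (IsColimit (CokernelCofork.ofπ q w)) := by
  have key : ∀ (W : P.FullSubcategory) (h : Y ⟶ W), f ≫ h = 0 → ∃ l : Q ⟶ W, q ≫ l = h := by
    intro W h hh
    obtain ⟨l, hl, hl'⟩ := exists_desc_hom (un q) hq hk (un h) (hg.cancel (by
      rw [MonObj.comp_one, ← Category.assoc, hfac, comp_eq_zero_iff.1 hh]))
    exact ⟨mkHom l, un_ext hl'⟩
  choose l hl using key
  refine ⟨CokernelCofork.IsColimit.ofπ q w (fun {W} h hh => l W h hh) (fun {W} h hh => hl W h hh) ?_⟩
  intro W h hh m hm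
  refine un_ext (hq.cancel ?_)
  rw [← un_comp, ← un_comp, hm, hl]

theorem exists_image (f : X ⟶ Y) : ∃ (K : P.FullSubcategory) (g : X ⟶ K) (i : K ⟶ Y),
    IsClosedImmersion (un i).left ∧ IsCover (un g) ∧ g ≫ i = f := by
  haveI := (hP.lft _ X.2).1
  haveI := (hP.lft _ X.2).2
  haveI := (hP.lft _ Y.2).1
  haveI := (hP.lft _ Y.2).2
  obtain ⟨K, _, c, g, hc, hci, hg, hl, -, hf, hs, hgc⟩ := exists_image_hom (un f)
  have := Over.mono_of_mono_left c
  have := Groth.AbVarMul.isCommMonObj_of_mono c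
  exact ⟨⟨⟨K⟩, hP.closed ⟨K⟩ Y.obj c hci Y.2⟩, mkHom g, mkHom c, hci, isCover g, un_ext hgc⟩

theorem hasCokernels : HasCokernels P.FullSubcategory := ⟨fun {X Y} f => by
  obtain ⟨K, g, i, hi, hg, hgi⟩ := exists_image hP f
  obtain ⟨Q, q, hq, hk⟩ := exists_quotient hP i
  have w : f ≫ q = 0 := by
    rw [← hgi, Category.assoc, (comp_eq_zero_iff.2 (IsKernel.comp_eq_one hk) : i ≫ q = 0), comp_zero]
  exact HasColimit.mk ⟨_, (isColimit_cofork (congrArg un hgi) hg hq hk w).some⟩⟩

theorem isNormalMonoCategory : IsNormalMonoCategory P.FullSubcategory where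
  normalMonoOfMono {X Y} f _ := by
    haveI := (hP.lft _ X.2).1
    haveI := (hP.lft _ X.2).2
    haveI := (hP.lft _ Y.2).1
    haveI := (hP.lft _ Y.2).2
    haveI : Mono (un f) := by
      obtain ⟨K, i, -, hk⟩ := exists_kernelFork hP f
      have hi : i = 0 := by
        rw [← cancel_mono f, zero_comp]
        exact comp_eq_zero_iff.2 (IsKernel.comp_eq_one hk)
      refine ⟨fun {T} a b hab => ?_⟩
      obtain ⟨n, hn⟩ := IsKernel.exists_lift hk (a⁻¹ * b) (by
        rw [MonObj.mul_comp, GrpObj.inv_comp, hab, _root_.inv_mul_cancel])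
      rw [hi, un_zero, MonObj.comp_one] at hn
      exact inv_mul_eq_one.1 hn.symm
    haveI := isClosedImmersion_of_mono_hom (un f)
    obtain ⟨Q, q, -, hk⟩ := exists_quotient hP f
    exact ⟨⟨Q, q, comp_eq_zero_iff.2 (IsKernel.comp_eq_one hk), (isLimit_kernelFork hk _).some⟩⟩

theorem isNormalEpiCategory : IsNormalEpiCategory P.FullSubcategory where
  normalEpiOfEpi {X Y} f _ := by
    obtain ⟨K, g, i, hi, hg, hgi⟩ := exists_image hP f
    obtain ⟨Q, q, hq, hk⟩ := exists_quotient hP i
    have hiq : i ≫ q = 0 := comp_eq_zero_iff.2 (IsKernel.comp_eq_one hk)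
    have hq0 : q = 0 := by
      rw [← cancel_epi f, comp_zero, ← hgi, Category.assoc, hiq, comp_zero]
    have := IsKernel.mono hk
    obtain ⟨z, hz⟩ := IsKernel.exists_lift hk (𝟙 _) (by rw [hq0, un_zero, Category.id_comp])
    haveI : IsIso (un i) := ⟨z, by rw [← cancel_mono (un i), Category.assoc, hz, Category.id_comp,
      Category.comp_id], hz⟩
    have hcf : IsCover (un f) := by
      rw [← hgi, un_comp]
      haveI : IsIso (un i).left := inferInstanceAs (IsIso ((Over.forget _).map (un i)))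
      exact hg.comp ⟨inferInstance, inferInstance, inferInstance⟩
    obtain ⟨N, n, -, hn⟩ := exists_kernelFork hP f
    exact ⟨⟨N, n, comp_eq_zero_iff.2 (IsKernel.comp_eq_one hn),
      (isColimit_cofork (Category.id_comp _) (IsCover.id _) hcf hn _).some⟩⟩

/-- A good class of commutative algebraic groups is an abelian category. -/
theorem nonempty_abelian : Nonempty (Abelian P.FullSubcategory) :=
  haveI := isNormalMonoCategory hP
  haveI := isNormalEpiCategory hP
  haveI := hasFiniteProducts hP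
  haveI := hasKernels hP
  haveI := hasCokernels hP
  ⟨{ }⟩

end Groth.AlgGrpAb
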